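import Groth.Agent.InjHullLib.Noetherian
import Groth.Agent.InjHullLib.Quotient
import Mathlib.Algebra.Category.ModuleCat.Basic
import Mathlib.RingTheory.HopkinsLevitzki
import Mathlib.CategoryTheory.Filtered.Basic
import Mathlib.Algebra.Module.TransferInstance
import Mathlib.Algebra.Module.Torsion.Basic

/-!
An injective module over a Noetherian ring is a filtered colimit of modules finite over Artinian
algebras.
-/

set_option autoImplicit false
set_option maxHeartbeats 1000000
set_option linter.style.haveILetI false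
universe u
open CategoryTheory CategoryTheory.Limits DirectSum

namespace Groth.Agent.InjColimLib

variable {A : Type u} [CommRing A]

theorem isArtinianRing_quot_pow [IsNoetherianRing A] (p : Ideal A) [p.IsPrime] {n : ℕ} (hn : 0 < n) :
    IsArtinianRing (Localization.AtPrime p ⧸
      (IsLocalRing.maximalIdeal (Localization.AtPrime p)) ^ n) := by
  set R := Localization.AtPrime p
  haveI : IsNoetherianRing R := IsLocalization.isNoetherianRing p.primeCompl _ inferInstance
  have hne : (IsLocalRing.maximalIdeal R) ^ n ≠ ⊤ := fun h => by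
    have := Ideal.pow_le_self (I := IsLocalRing.maximalIdeal R) hn.ne'
    rw [h] at this
    exact (IsLocalRing.maximalIdeal.isMaximal R).ne_top (top_le_iff.mp this)
  haveI : Nontrivial (R ⧸ (IsLocalRing.maximalIdeal R) ^ n) := Ideal.Quotient.nontrivial_iff.mpr hne
  haveI : IsLocalRing (R ⧸ (IsLocalRing.maximalIdeal R) ^ n) :=
    .of_surjective' (Ideal.Quotient.mk _) Ideal.Quotient.mk_surjective
  rw [isArtinianRing_iff_isNilpotent_maximalIdeal]
  refine ⟨n, ?_⟩
  have hle : IsLocalRing.maximalIdeal (R ⧸ (IsLocalRing.maximalIdeal R) ^ n) ≤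
      (IsLocalRing.maximalIdeal R).map (Ideal.Quotient.mk _) := by
    intro z hz
    obtain ⟨r, rfl⟩ := Ideal.Quotient.mk_surjective z
    refine Ideal.mem_map_of_mem _ ?_
    rw [IsLocalRing.mem_maximalIdeal, mem_nonunits_iff] at hz ⊢
    exact fun h => hz (h.map _)
  refine le_bot_iff.mp ((Ideal.pow_right_mono hle n).trans ?_)
  rw [← Ideal.map_pow, Ideal.map_quotient_self]

theorem main [IsNoetherianRing A] (J : Type u) [AddCommGroup J] [Module A J] [Module.Injective A J] :
    ∃ (ι : Type u) (_ : SmallCategory ι) (_ : IsFiltered ι) (D : ι ⥤ ModuleCat.{u} A)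
      (c : Cocone D) (_ : IsColimit c), Nonempty (c.pt ≅ ModuleCat.of A J) ∧
      ∀ i : ι, ∃ (B : Type u) (_ : CommRing B) (_ : Algebra A B) (_ : IsArtinianRing B)
        (_ : Module B (D.obj i)) (_ : IsScalarTower A B (D.obj i)), Module.Finite B (D.obj i) := by
  classical
  obtain ⟨σ, E, hint, hE⟩ := InjHullLib.exists_isInternal_indecomposable (R := A) J inferInstance
  choose p hp f hf using fun i => InjHullLib.exists_hull_prime_of_indecomposable (hE i).1 (hE i).2
  have hbij : ∀ i (s : A), s ∉ p i → Function.Bijective (fun x : E i => s • x) := fun i s hs => by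
    haveI := hp i
    exact InjHullLib.smul_bijective_of_notMem (p i) (hf i) hs
  let X : Finset (Σ i, E i) → ∀ i, Submodule A (E i) :=
    fun F i => Submodule.span A {x | (⟨i, x⟩ : Σ i, E i) ∈ F}
  have hXmono : ∀ {F F' : Finset (Σ i, E i)}, F ≤ F' → ∀ i, X F i ≤ X F' i :=
    fun hFF' i => Submodule.span_mono fun x hx => hFF' hx
  have hXfg : ∀ F i, (X F i).FG := fun F i => Submodule.fg_span
    ((F.finite_toSet.preimage (f := fun x : E i => (⟨i, x⟩ : Σ i, E i))
      (fun x _ y _ h => eq_of_heq (Sigma.mk.inj h).2)))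
  -- the saturations
  let sat : Finset (Σ i, E i) → ∀ i, Submodule A (E i) := fun F i =>
    { carrier := {y | ∃ s ∉ p i, s • y ∈ X F i}
      zero_mem' := ⟨1, fun h => (hp i).ne_top ((Ideal.eq_top_iff_one _).mpr h), by simp⟩
      add_mem' := fun {y y'} ⟨s, hs, hy⟩ ⟨s', hs', hy'⟩ => by
        refine ⟨s * s', fun h => ((hp i).mem_or_mem h).elim hs hs', ?_⟩
        rw [smul_add]
        refine add_mem ?_ ?_
        · rw [mul_comm, mul_smul]; exact Submodule.smul_mem _ _ hy
        · rw [mul_smul]; exact Submodule.smul_mem _ _ hy'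
      smul_mem' := fun c y ⟨s, hs, hy⟩ => ⟨s, hs, by rw [smul_comm]; exact Submodule.smul_mem _ _ hy⟩ }
  let T : Finset (Σ i, E i) → Finset σ := fun F => F.image Sigma.fst
  let e : (⨁ i, E i) ≃ₗ[A] J := LinearEquiv.ofBijective (DirectSum.coeLinearMap E) hint
  let g : ∀ F, (∀ i : T F, sat F i.1) →ₗ[A] J := fun F =>
    ∑ i : T F, (E i.1).subtype ∘ₗ (sat F i.1).subtype ∘ₗ LinearMap.proj i
  let N : Finset (Σ i, E i) → Submodule A J := fun F => LinearMap.range (g F)
  have hNmono : ∀ {F F' : Finset (Σ i, E i)}, F ≤ F' → N F ≤ N F' := by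
    rintro F F' hFF' _ ⟨v, rfl⟩
    simp only [g, LinearMap.sum_apply, LinearMap.comp_apply, LinearMap.proj_apply]
    refine Submodule.sum_mem _ fun i _ => ?_
    have hi : i.1 ∈ T F' := Finset.image_subset_image hFF' i.2
    have hmem : ((v i : sat F i.1) : E i.1) ∈ sat F' i.1 := by
      obtain ⟨s, hs, h⟩ := (v i).2
      exact ⟨s, hs, hXmono hFF' _ h⟩
    refine ⟨Pi.single (⟨i.1, hi⟩ : T F') ⟨_, hmem⟩, ?_⟩
    simp only [g, LinearMap.sum_apply, LinearMap.comp_apply, LinearMap.proj_apply]
    rw [Finset.sum_eq_single (⟨i.1, hi⟩ : T F')]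
    · simp
    · intro j _ hj; simp [Pi.single_eq_of_ne hj]
    · simp
  have hgen : ∀ x : J, ∃ F, x ∈ N F := by
    intro x
    obtain ⟨w, rfl⟩ := e.surjective x
    induction w using DirectSum.induction_on with
    | zero => exact ⟨∅, by simp⟩
    | of i y =>
      refine ⟨{⟨i, y⟩}, ?_⟩
      have hi : i ∈ T ({⟨i, y⟩} : Finset (Σ i, E i)) := by simp [T]
      have hy : y ∈ sat {⟨i, y⟩} i := ⟨1, fun h => (hp i).ne_top ((Ideal.eq_top_iff_one _).mpr h),
        by rw [one_smul]; exact Submodule.subset_span (by simp)⟩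
      refine ⟨Pi.single (⟨i, hi⟩ : T _) ⟨y, hy⟩, ?_⟩
      simp only [g, LinearMap.sum_apply, LinearMap.comp_apply, LinearMap.proj_apply]
      rw [Finset.sum_eq_single (⟨i, hi⟩ : T ({⟨i, y⟩} : Finset (Σ i, E i)))]
      · simp [e, DirectSum.coeLinearMap_of]
      · intro j _ hj; simp [Pi.single_eq_of_ne hj]
      · simp
    | add a b ha hb =>
      obtain ⟨Fa, hFa⟩ := ha
      obtain ⟨Fb, hFb⟩ := hb
      exact ⟨Fa ∪ Fb, by
        rw [map_add]
        exact add_mem (hNmono Finset.subset_union_left hFa) (hNmono Finset.subset_union_right hFb)⟩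
  -- diagram and cocone
  let D : Finset (Σ i, E i) ⥤ ModuleCat.{u} A :=
    { obj := fun F => ModuleCat.of A (N F)
      map := fun {F F'} h => ModuleCat.ofHom (Submodule.inclusion (hNmono (leOfHom h))) }
  let c : Cocone D :=
    { pt := ModuleCat.of A J
      ι := { app := fun F => ModuleCat.ofHom (N F).subtype
             naturality := fun F F' h => by ext x; rfl } }
  choose Fx hFx using hgen
  have hcompat : ∀ (s : Cocone D) {F F' : Finset (Σ i, E i)} (h : F ≤ F') (y : N F),
      (s.ι.app F').hom ⟨(y : J), hNmono h y.2⟩ = (s.ι.app F).hom y := fun s F F' h y => by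
    conv_rhs => rw [← s.w (homOfLE h)]
    rfl
  have hc : IsColimit c :=
    { desc := fun s => ModuleCat.ofHom
        { toFun := fun x => (s.ι.app (Fx x)).hom ⟨x, hFx x⟩
          map_add' := fun x y => by
            set G := Fx x ∪ Fx y ∪ Fx (x + y)
            have hx : Fx x ≤ G := fun z hz => by simp [G, hz]
            have hy : Fx y ≤ G := fun z hz => by simp [G, hz]
            have hxy : Fx (x + y) ≤ G := fun z hz => by simp [G, hz]
            rw [← hcompat s hx ⟨x, hFx x⟩, ← hcompat s hy ⟨y, hFx y⟩, ← hcompat s hxy ⟨x + y, hFx (x + y)⟩,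
              ← map_add]
            rfl
          map_smul' := fun a x => by
            set G := Fx x ∪ Fx (a • x)
            have hx : Fx x ≤ G := fun z hz => by simp [G, hz]
            have hax : Fx (a • x) ≤ G := fun z hz => by simp [G, hz]
            rw [← hcompat s hx ⟨x, hFx x⟩, ← hcompat s hax ⟨a • x, hFx (a • x)⟩, RingHom.id_apply, ← map_smul]
            rfl }
      fac := fun s F => by
        refine ModuleCat.hom_ext (LinearMap.ext fun y => ?_)
        change (s.ι.app (Fx (y : J))).hom ⟨(y : J), hFx _⟩ = (s.ι.app F).hom y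
        rw [← hcompat s (Finset.subset_union_left (s₂ := F)) ⟨(y : J), hFx _⟩,
          ← hcompat s (Finset.subset_union_right (s₁ := Fx (y : J))) y]
      uniq := fun s m hm => by
        refine ModuleCat.hom_ext (LinearMap.ext fun x => ?_)
        change m.hom x = (s.ι.app (Fx x)).hom ⟨x, hFx x⟩
        rw [← hm (Fx x)]
        rfl }
  refine ⟨Finset (Σ i, E i), inferInstance, inferInstance, D, c, hc, ⟨Iso.refl _⟩, fun F => ?_⟩
  -- the Artinian algebra
  have hn : ∀ i : T F, ∃ n, 0 < n ∧ ∀ a ∈ p i.1 ^ n, ∀ x ∈ X F i.1, a • x = 0 := by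
    intro i
    haveI := hp i.1
    obtain ⟨t, ht⟩ := hXfg F i.1
    have hrad : p i.1 ≤ (X F i.1).annihilator.radical := by
      intro a ha
      choose k hk using fun x : E i.1 => InjHullLib.exists_pow_smul_eq_zero_of_mem (p i.1) (hf i.1).toIsEssentialInj ha x
      refine ⟨t.sup k, ?_⟩
      rw [← ht, Submodule.mem_annihilator_span]
      rintro ⟨x, hx⟩
      obtain ⟨d, hd⟩ := Nat.exists_eq_add_of_le (Finset.le_sup (f := k) hx)
      rw [hd, pow_add, mul_comm, mul_smul, hk, smul_zero]
    obtain ⟨n, hn⟩ := Ideal.exists_pow_le_of_le_radical_of_fg hrad (IsNoetherian.noetherian _)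
    exact ⟨n + 1, n.succ_pos, fun a ha x hx =>
      Submodule.mem_annihilator.mp (hn (Ideal.pow_le_pow_right n.le_succ ha)) x hx⟩
  choose n hn0 hn using hn
  haveI : ∀ i : T F, (p i.1).IsPrime := fun i => hp i.1
  let L : T F → Type u := fun i => Localization.AtPrime (p i.1)
  let B : T F → Type u := fun i =>
    Localization.AtPrime (p i.1) ⧸ IsLocalRing.maximalIdeal (Localization.AtPrime (p i.1)) ^ n i
  haveI : ∀ i, IsArtinianRing (B i) := fun i => isArtinianRing_quot_pow (p i.1) (hn0 i)
  -- each saturation is a localization of a finite module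
  let incl : ∀ i : T F, X F i.1 →ₗ[A] sat F i.1 := fun i =>
    Submodule.inclusion (fun x hx => ⟨1, fun h => (hp i.1).ne_top ((Ideal.eq_top_iff_one _).mpr h), by rwa [one_smul]⟩)
  haveI hloc : ∀ i : T F, IsLocalizedModule (p i.1).primeCompl (incl i) := fun i =>
    { map_units := fun s => by
        rw [Module.End.isUnit_iff]
        constructor
        · intro y y' h
          exact Subtype.ext ((hbij i.1 s s.2).1 (congrArg Subtype.val h))
        · intro y
          obtain ⟨z, hz⟩ := (hbij i.1 s s.2).2 (y : E i.1)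
          obtain ⟨t, ht, hty⟩ := y.2
          refine ⟨⟨z, t * s, fun h => ((hp i.1).mem_or_mem h).elim ht s.2, ?_⟩, Subtype.ext hz⟩
          have hz' : (s : A) • z = (y : E i.1) := hz
          rw [mul_smul, hz']
          exact hty
      surj := fun y => by
        obtain ⟨t, ht, hty⟩ := y.2
        exact ⟨⟨⟨t • (y : E i.1), hty⟩, ⟨t, ht⟩⟩, Subtype.ext rfl⟩
      exists_of_eq := fun {x x'} h => ⟨1, by
        have h' : (x : E i.1) = x' := congrArg (fun z : sat F i.1 => (z : E i.1)) h
        rw [one_smul, one_smul, Subtype.ext h']⟩ }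
  letI mL : ∀ i : T F, Module (Localization.AtPrime (p i.1)) (sat F i.1) := fun i =>
    IsLocalizedModule.module (p i.1).primeCompl (incl i)
  haveI tL : ∀ i : T F, IsScalarTower A (Localization.AtPrime (p i.1)) (sat F i.1) := fun i =>
    IsLocalizedModule.isScalarTower_module (p i.1).primeCompl (incl i)
  haveI fL : ∀ i : T F, Module.Finite (Localization.AtPrime (p i.1)) (sat F i.1) := fun i => by
    haveI := Module.Finite.iff_fg.mpr (hXfg F i.1)
    exact Module.Finite.of_isLocalizedModule (p i.1).primeCompl (incl i)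
  have hkill : ∀ i : T F, Module.IsTorsionBySet (Localization.AtPrime (p i.1)) (sat F i.1)
      (IsLocalRing.maximalIdeal (Localization.AtPrime (p i.1)) ^ n i : Ideal _) := by
    rintro i y ⟨a, ha⟩
    show a • y = 0
    have hle : IsLocalRing.maximalIdeal (Localization.AtPrime (p i.1)) ^ n i ≤
        (Submodule.span (Localization.AtPrime (p i.1)) {y}).annihilator := by
      rw [← Localization.AtPrime.map_eq_maximalIdeal, ← Ideal.map_pow, Ideal.map_le_iff_le_comap]
      intro b hb
      rw [Ideal.mem_comap, Submodule.mem_annihilator_span_singleton, algebraMap_smul]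
      obtain ⟨t, ht, hty⟩ := y.2
      refine Subtype.ext ((hbij i.1 t ht).1 ?_)
      show t • ((b • y : sat F i.1) : E i.1) = t • ((0 : sat F i.1) : E i.1)
      rw [Submodule.coe_smul, smul_comm, hn i b hb _ hty, ZeroMemClass.coe_zero, smul_zero]
    exact (Submodule.mem_annihilator_span_singleton _ _).mp (hle ha)
  letI mB : ∀ i : T F, Module (B i) (sat F i.1) := fun i => (hkill i).module
  haveI tB : ∀ i : T F, IsScalarTower A (B i) (sat F i.1) := fun i => (hkill i).isScalarTower
  haveI fB : ∀ i : T F, Module.Finite (B i) (sat F i.1) := fun i => by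
    haveI : IsScalarTower (Localization.AtPrime (p i.1)) (B i) (sat F i.1) := (hkill i).isScalarTower
    exact Module.Finite.of_restrictScalars_finite (Localization.AtPrime (p i.1)) (B i) (sat F i.1)
  letI mM : Module (∀ i, B i) (∀ i : T F, sat F i.1) := Pi.module'
  haveI fM : Module.Finite (∀ i, B i) (∀ i : T F, sat F i.1) := by
    choose S hS using fun i => (fB i).fg_top
    refine ⟨⟨Finset.univ.biUnion fun i => (S i).image (Pi.single i), ?_⟩⟩
    rw [eq_top_iff]
    intro v _
    rw [← Finset.univ_sum_single v]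
    refine Submodule.sum_mem _ fun i _ => ?_
    have hvi : v i ∈ Submodule.span (B i) (S i : Set (sat F i.1)) := by rw [hS i]; trivial
    generalize v i = z₀ at hvi ⊢
    induction hvi using Submodule.span_induction with
    | mem z hz => exact Submodule.subset_span (Finset.mem_coe.mpr (Finset.mem_biUnion.mpr ⟨i, Finset.mem_univ _, Finset.mem_image.mpr ⟨z, hz, rfl⟩⟩))
    | zero => simp
    | add a b _ _ ha hb => rw [Pi.single_add]; exact add_mem ha hb
    | smul r a _ ha =>
      have : (Pi.single i (r • a) : ∀ j : T F, sat F j.1) =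
          (Pi.single i r : ∀ j, B j) • (Pi.single i a : ∀ j : T F, sat F j.1) := by
        funext j
        by_cases hj : j = i
        · subst hj; simp [Pi.smul_def']
        · simp [Pi.smul_def', Pi.single_eq_of_ne hj]
      rw [this]
      exact Submodule.smul_mem _ _ ha
  have hinj : Function.Injective (g F) := by
    intro v w hvw
    let mk' : (∀ i : T F, sat F i.1) → ⨁ i, E i := fun v => DFinsupp.mk (T F) fun i => ((v ⟨i.1, i.2⟩ : sat F i.1) : E i.1)
    have hmk : ∀ v, g F v = e (mk' v) := by
      intro v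
      have : mk' v = ∑ i : T F, DirectSum.of (fun i => E i) i.1 ((v i : sat F i.1) : E i.1) := by
        refine DFinsupp.ext fun j => ?_
        rw [DFinsupp.finsetSum_apply, DFinsupp.mk_apply]
        by_cases hj : j ∈ T F
        · rw [dif_pos hj, Finset.sum_eq_single ⟨j, hj⟩]
          · exact (DirectSum.of_eq_same (β := fun i => E i) j _).symm
          · intro k _ hk
            exact DirectSum.of_eq_of_ne _ _ _ (fun h => hk (Subtype.ext h.symm))
          · simp
        · rw [dif_neg hj, eq_comm]
          exact Finset.sum_eq_zero fun k _ => DirectSum.of_eq_of_ne _ _ _ (fun (h : j = k.1) => hj (h ▸ k.2))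
      simp [this, g, e, map_sum, DirectSum.coeLinearMap_of]
    rw [hmk, hmk] at hvw
    have h := e.injective hvw
    funext i
    have h' := congrArg (fun z : ⨁ i, E i => z i.1) h
    simp only [mk', DFinsupp.mk_apply, dif_pos i.2] at h'
    exact Subtype.ext h'
  let eN : (∀ i : T F, sat F i.1) ≃ₗ[A] N F := LinearEquiv.ofInjective (g F) hinj
  letI mN : Module (∀ i, B i) (N F) := eN.symm.toAddEquiv.module _
  have hsc : ∀ (b : ∀ i, B i) (y : N F), b • y = eN (b • eN.symm y) := fun b y => rfl
  refine ⟨∀ i, B i, inferInstance, inferInstance, inferInstance, mN, ⟨fun a b y => ?_⟩, ?_⟩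
  · change (a • b) • y = a • (b • y)
    have hsym : ∀ (b : ∀ i, B i) (y : N F), eN.symm (b • y) = b • eN.symm y := fun b y => by
      rw [hsc, eN.symm_apply_apply]
    refine eN.symm.injective ?_
    refine (hsym (a • b) y).trans (Eq.trans ?_ (map_smul eN.symm a (b • y)).symm)
    rw [hsym]
    funext i
    exact smul_assoc a (b i) _
  · exact Module.Finite.of_surjective (M := ∀ i : T F, sat F i.1)
      ({ toFun := fun v => eN v
         map_add' := fun _ _ => map_add _ _ _
         map_smul' := fun b v => by rw [RingHom.id_apply, hsc, eN.symm_apply_apply] } :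
        (∀ i : T F, sat F i.1) →ₗ[∀ i, B i] N F) eN.surjective

end Groth.Agent.InjColimLib
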